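import Groth.Agent.Mumford23.Main
import Groth.Agent.Coherent.FlatBaseChangeMain
import Groth.Agent.CurveRR24.BCField
import Mathlib.RingTheory.Flat.FaithfullyFlat.Algebra

/-!
# Cohomology vanishing and extensions of the base field
-/

set_option autoImplicit false
set_option linter.style.haveILetI false
set_option backward.isDefEq.respectTransparency.types false

universe u

open CategoryTheory CategoryTheory.Limits AlgebraicGeometry TensorProduct

noncomputable section

namespace Groth.Agent.Mumford23

variable {k K : Type u} [Field k] [Field K] [Algebra k K] {X X' : Scheme.{u}}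
  [X.Over (Spec (CommRingCat.of k))] [X'.Over (Spec (CommRingCat.of K))]
  [CompactSpace X] [QuasiSeparatedSpace X] {g : X' ⟶ X}
  (h : IsPullback g (X' ↘ Spec (CommRingCat.of K)) (X ↘ Spec (CommRingCat.of k))
    (Spec.map (CommRingCat.ofHom (algebraMap k K))))

include h in
theorem subsingleton_HH_bc_iff (M : X.Modules) [Coh.IsQCoh M] (i : ℕ) :
    Subsingleton (Coh.HH X' ((Scheme.Modules.pullback g).obj M) i) ↔ Subsingleton (Coh.HH X M i) := by
  obtain ⟨e⟩ := Coherent.nonempty_flat_base_change g M h i
  constructor
  · intro hs
    haveI : Subsingleton (K ⊗[k] Coh.HH X M i) := e.toEquiv.subsingleton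
    exact Module.FaithfullyFlat.lTensor_reflects_triviality k K (Coh.HH X M i)
  · intro hs
    exact e.symm.toEquiv.subsingleton

end Groth.Agent.Mumford23
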