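import Groth.Agent.Mumford23.Closed
import Groth.Agent.Mumford23.BaseChange
import Groth.Agent.CurveRR24.BCProj
import Groth.Agent.DCat.FlatPull
import Groth.Agent.ZClosLib.Descent
import Groth.Agent.S4466
import Mathlib.FieldTheory.RatFunc.Basic

/-!
# Mumford's bound over all fields
-/

set_option autoImplicit false
set_option linter.style.haveILetI false
set_option backward.isDefEq.respectTransparency.types false

universe u

open CategoryTheory CategoryTheory.Limits AlgebraicGeometry TopologicalSpace Opposite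
open Groth.Agent.Coherent Groth.Agent.PicLib Groth.Agent.AmpleLib
open Groth.Agent.CAlgH3 Groth.Agent.CAlgH3.ModCohSeq Groth.Agent.CAlgH3.PSheaf Groth.Agent.CAlgH3.PSheafGen
  Groth.Agent.CAlgH3.PSheafSeq Groth.Agent.CAlgH3.PSheafBound

noncomputable section

namespace Groth.Agent.Mumford23

variable (k K : Type u) [Field k] [Field K] (n : ℕ)

local notation "Pk" => CohB1.ProjSpace n k
local notation "PK" => CohB1.ProjSpace n K

/-- `χ(O(t))` on `P^n`, read off over `ℚ`. -/
def chiO (n : ℕ) (t : ℤ) : ℤ :=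
  eu (k := ULift.{u} ℚ) (r := n) (Coh.structureModule _) t

theorem eu_structure_nat (d : ℕ) : eu (k := k) (r := n) (Coh.structureModule Pk) d = (Nat.choose (d + n) n : ℤ) := by
  rw [eu, EulerLib.euler_congr k _ (unitTensorIso (Twist.twistProjSpace n k (d : ℤ))),
    EulerLib.euler_eq_sum k _ _ 0 fun q hq =>
      Coherent.subsingleton_HH_twist q (by omega) (by omega)]
  obtain ⟨e⟩ := Groth.Agent.S0843.result k n d
  simp [e.finrank_eq, PnChi.finrank_homogeneous]

theorem eu_structure_eq (t : ℤ) : eu (k := k) (r := n) (Coh.structureModule Pk) t = chiO.{u} n t := by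
  obtain ⟨p, -, hp⟩ := exists_eu_poly (k := k) (r := n) (Coherent.isCoh_structureModule Pk)
  obtain ⟨q, -, hq⟩ := exists_eu_poly (k := ULift.{u} ℚ) (r := n) (Coherent.isCoh_structureModule _)
  have hpq : p = q := Polynomial.eq_of_infinite_eval_eq _ _ (Set.infinite_of_injective_forall_mem
    (f := fun l : ℕ => (l : ℚ)) Nat.cast_injective fun l => by
      show p.eval (l : ℚ) = q.eval (l : ℚ)
      have h1 := hp l
      have h2 := hq l
      rw [eu_structure_nat k n l] at h1
      rw [eu_structure_nat (ULift.{u} ℚ) n l] at h2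
      simp only [Int.cast_natCast] at h1 h2
      rw [← h1, ← h2])
  have h := hp t
  rw [hpq, ← hq t] at h
  exact_mod_cast h

theorem isMRegular_zero_structure : Curv2.IsMRegular k n (Coh.structureModule Pk) 0 := fun i hi hin =>
  V_of_iso (unitTensorIso _).symm (Coherent.subsingleton_HH_twist i (by omega) (by omega))

theorem free_facts : ∀ r : ℕ, Curv2.IsMRegular k n (FlatMod.freeMod Pk r) 0 ∧
    ∀ t, eu (k := k) (r := n) (FlatMod.freeMod Pk r) t = r * chiO.{u} n t := by
  intro r
  induction r with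
  | zero =>
    have hz : IsZero (FlatMod.freeMod Pk 0) := by
      rw [IsZero.iff_id_eq_zero]
      exact Sigma.hom_ext (f := fun _ : Fin 0 => Coh.structureModule Pk) _ _ fun i => i.elim0
    have hz' : ∀ t, IsZero (CohB1.tensorMod (FlatMod.freeMod Pk 0) (Twist.twistProjSpace n k t)) := fun t =>
      Functor.map_isZero ((DCoh.tensorBi (X := Pk)).flip.obj (Twist.twistProjSpace n k t)) hz
    refine ⟨fun i _ _ => PSheafCx.W_of_isZero hz _ i, fun t => ?_⟩
    rw [eu, EulerLib.euler_of_isZero k _ (hz' t)]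
    simp
  | succ m ih =>
    classical
    let O : Fin (m + 1) → (Pk).Modules := fun _ => Coh.structureModule _
    let O' : Fin m → (Pk).Modules := fun _ => Coh.structureModule _
    let f : ∐ O' ⟶ ∐ O := Sigma.desc fun i => Sigma.ι O i.castSucc
    let g : ∐ O ⟶ Coh.structureModule _ := Sigma.desc fun i => if i = Fin.last m then 𝟙 _ else 0
    let ρ : ∐ O ⟶ ∐ O' := Sigma.desc (Fin.lastCases (motive := fun i => O i ⟶ ∐ O') 0 fun i => Sigma.ι O' i)
    let S := ShortComplex.mk f g (Sigma.hom_ext _ _ fun i => by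
      simp [f, g, (Fin.castSucc_lt_last i).ne])
    let sp : S.Splitting :=
      { r := ρ
        s := Sigma.ι O (Fin.last m)
        f_r := Sigma.hom_ext _ _ fun i => by simp [S, f, ρ]
        s_g := by simp [S, g]; rfl
        id := Sigma.hom_ext _ _ fun i => by
          induction i using Fin.lastCases with
          | last => simp [S, f, g, ρ]
          | cast i => simp [S, f, g, ρ, (Fin.castSucc_lt_last i).ne] }
    refine ⟨isMRegular_mid sp.shortExact ih.1 (isMRegular_zero_structure k n), fun t => ?_⟩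
    calc eu (k := k) (r := n) (FlatMod.freeMod Pk (m + 1)) t
        = eu (FlatMod.freeMod Pk m) t + eu (Coh.structureModule Pk) t :=
          eu_shortExact sp.shortExact (isCoh_freeMod m) (isCoh_freeMod (m + 1))
            (Coherent.isCoh_structureModule _) t
      _ = _ := by rw [ih.2 t, eu_structure_eq]; push_cast; ring

variable {k K n} [Algebra k K]

local notation "π" => CurveRR24.projBC k K n

omit [Field k] [Field K] [Algebra k K] in
theorem sigId_cover (F : Type u) [Field F] (x : CohB1.ProjSpace n F) :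
    ∃ i, x ∈ glocus (EmbLib24.pbO (𝟙 (CohB1.ProjSpace n F))) (EmbLib24.sig (𝟙 (CohB1.ProjSpace n F)) i) := by
  obtain ⟨j, hj⟩ := EmbLib24.exists_chart_mem x
  exact ⟨j, (EmbLib24.preimage_chart (𝟙 (CohB1.ProjSpace n F)) j).le hj⟩

/-- `O(1)` on `P^n` commutes with extensions of the base field. -/
theorem nonempty_pullback_twistOne :
    Nonempty ((Scheme.Modules.pullback π).obj (Twist.twistProjSpace n k 1) ≅ Twist.twistProjSpace n K 1) := by
  let L := EmbLib24.pbO (𝟙 (Pk))
  have hL : PicF.IsInvertible L := PicLoc.isInvertible_pullback _ (isInvertible_twistProj 1)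
  let L' := (Scheme.Modules.pullback π).obj L
  let σ' : Fin (n + 1) → Γ(L', (⊤ : (PK).Opens)) := fun i => PicLib.pullSec π (EmbLib24.sig (𝟙 (Pk)) i)
  obtain ⟨r', hr', τ', hτ'⟩ := UPLib.exists_hom_projSpace n (CohB1.ProjSpace.toSpec n K)
    (PicLoc.isInvertible_pullback π hL) σ' fun x => by
      obtain ⟨i, hi⟩ := sigId_cover k ((π : PK ⟶ Pk) x)
      exact ⟨i, (glocus_pullSec π hL (EmbLib24.sig (𝟙 (Pk)) i)).ge hi⟩
  have hpb := Coherent.isPullback_projSpace n k K
  have hsq : r' ≫ π = π ≫ 𝟙 _ :=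
    CurveRR24.comp_projBC_eq (pX := CohB1.ProjSpace.toSpec n k) π hpb.w hL (Category.id_comp _) (Iso.refl L) hr' τ'
      fun i => hτ' i
  rw [Category.comp_id] at hsq
  obtain rfl : r' = 𝟙 _ := hpb.hom_ext (hsq.trans (Category.id_comp _).symm) (hr'.trans (Category.id_comp _).symm)
  exact ⟨(Scheme.Modules.pullback π).mapIso ((Scheme.Modules.pullbackId _).app _).symm ≪≫ τ'.symm ≪≫
    (Scheme.Modules.pullbackId _).app _⟩

theorem nonempty_pullback_twistNat (t : ℕ) :
    Nonempty ((Scheme.Modules.pullback π).obj (Twist.twistProjSpace n k (t : ℤ)) ≅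
      Twist.twistProjSpace n K (t : ℤ)) := by
  obtain ⟨d⟩ := TwistLib.G.nonempty_twist_pow_iso (𝒜 := CohB1.polyGrading n k) covers t
  obtain ⟨d'⟩ := TwistLib.G.nonempty_twist_pow_iso (𝒜 := CohB1.polyGrading n K) covers t
  obtain ⟨e, -⟩ := AmpleLib.exists_pullPowIso π (isInvertible_twistProj (k := k) (r := n) 1) t
  obtain ⟨o⟩ := nonempty_pullback_twistOne (k := k) (K := K) (n := n)
  obtain ⟨o'⟩ := nonempty_tensorPow_congr o t
  obtain ⟨c⟩ := nonempty_tensorPow_congr (PRing.twistCompare (k := k) (r := n) 1) t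
  obtain ⟨c'⟩ := nonempty_tensorPow_congr (PRing.twistCompare (k := K) (r := n) 1) t
  exact ⟨(Scheme.Modules.pullback π).mapIso ((PRing.twistCompare (t : ℤ)).symm ≪≫ d ≪≫ c) ≪≫ e ≪≫ o' ≪≫
    c'.symm ≪≫ d'.symm ≪≫ PRing.twistCompare (t : ℤ)⟩

theorem nonempty_pullback_twistMod (M : (Pk).Modules) (t : ℕ) :
    Nonempty ((Scheme.Modules.pullback π).obj (CohB1.tensorMod M (Twist.twistProjSpace n k (t : ℤ))) ≅
      CohB1.tensorMod ((Scheme.Modules.pullback π).obj M) (Twist.twistProjSpace n K (t : ℤ))) := by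
  obtain ⟨e⟩ := nonempty_pullback_twistNat (k := k) (K := K) (n := n) t
  exact ⟨DCat.PullTensor.pullTensorIso π M (Twist.twistProjSpace n k (t : ℤ)) ≪≫ Coherent.tensorIso (Iso.refl _) e⟩

theorem eu_pullback {M : (Pk).Modules} (hM : Coh.IsCoh M) (t : ℕ) :
    eu ((Scheme.Modules.pullback π).obj M) (t : ℤ) = eu M (t : ℤ) := by
  obtain ⟨e⟩ := nonempty_pullback_twistMod (K := K) M t
  haveI := (isCoh_twistProj hM (t : ℤ)).1
  exact (EulerLib.euler_congr K _ e).symm.trans
    (CurveRR24.euler_bc (X := CohB1.ProjSpace n k) (Coherent.isPullback_projSpace n k K) _)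

theorem W_of_pullback {M : (Pk).Modules} (hM : Coh.IsCoh M) {t : ℤ} (ht : 0 ≤ t) {i : ℕ}
    (h : W ((Scheme.Modules.pullback π).obj M) t i) : W M t i := by
  obtain ⟨l, rfl⟩ := Int.eq_ofNat_of_zero_le ht
  obtain ⟨e⟩ := nonempty_pullback_twistMod (K := K) M l
  haveI := (isCoh_twistProj hM (l : ℤ)).1
  exact (subsingleton_HH_bc_iff (X := CohB1.ProjSpace n k) (Coherent.isPullback_projSpace n k K) _ i).1 (V_of_iso e.symm h)

/-- Mumford: kernels of quotients of a free module with given Hilbert polynomial are uniformly regular. -/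
theorem exists_regularity_all (n r : ℕ) (P : Polynomial ℚ) :
    ∃ m : ℤ, ∀ (k : Type u) [Field k] (F : (CohB1.ProjSpace n k).Modules)
      (φ : FlatMod.freeMod (CohB1.ProjSpace n k) r ⟶ F), Coh.IsCoh F → Epi φ →
      (∀ t : ℤ, (Curv2.euler k (CohB1.ProjSpace n k) (CohB1.tensorMod F (Twist.twistProjSpace n k t)) : ℚ) =
        P.eval (t : ℚ)) →
      Curv2.IsMRegular k n (kernel φ) m := by
  let b : ℤ → ℤ := fun t => r * chiO.{u} n t
  let χ : ℤ → ℤ := fun t => r * chiO.{u} n t - ⌊P.eval (t : ℚ)⌋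
  refine ⟨max (bound b (n + 1) χ) n, fun k _ F φ hF _ hP => ?_⟩
  let K := RatFunc k
  haveI : Infinite K := Infinite.of_injective _ (RatFunc.algebraMap_injective k)
  haveI : Flat (CurveRR24.projBC k K n) := by
    haveI : Flat (Spec.map (CommRingCat.ofHom (algebraMap k K))) := by
      rw [HasRingHomProperty.Spec_iff (P := @Flat)]
      exact RingHom.flat_algebraMap_iff.2 inferInstance
    exact MorphismProperty.of_isPullback (P := @Flat) (Coherent.isPullback_projSpace n k K).flip inferInstance
  have hfree := isCoh_freeMod (X := CohB1.ProjSpace n k) r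
  have hG : Coh.IsCoh (kernel φ) := isCoh_kernel φ hfree hF.1
  let G' := (Scheme.Modules.pullback (CurveRR24.projBC k K n)).obj (kernel φ)
  have hG' : Coh.IsCoh G' := ZClosLib.isCoh_pullback _ _ hG
  have hS : (ShortComplex.mk (kernel.ι φ) φ (kernel.condition φ)).ShortExact :=
    { exact := ShortComplex.exact_kernel φ }
  have hχk : ∀ t, eu (kernel φ) t = χ t := fun t => by
    have h := eu_shortExact hS hG hfree hF t
    dsimp only at h
    have h2 : ⌊P.eval (t : ℚ)⌋ = eu F t := by rw [← hP t, Int.floor_intCast]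
    show _ = r * chiO.{u} n t - _
    rw [h2, ← (free_facts k n r).2 t]
    omega
  have hχ : eu G' = χ := by
    obtain ⟨p, -, hp⟩ := exists_eu_poly hG'
    obtain ⟨q, -, hq⟩ := exists_eu_poly hG
    have hpq : p = q := Polynomial.eq_of_infinite_eval_eq _ _ (Set.infinite_of_injective_forall_mem
      (f := fun l : ℕ => (l : ℚ)) Nat.cast_injective fun l => by
        show p.eval (l : ℚ) = q.eval (l : ℚ)
        have h1 := hp l
        have h2 := hq l
        rw [eu_pullback hG l, h2] at h1
        simpa using h1.symm)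
    funext t
    rw [← hχk t]
    have h := hp t
    rw [hpq, ← hq t] at h
    exact_mod_cast h
  obtain ⟨e⟩ := DCat.PerfTensor.nonempty_pullback_free (CurveRR24.projBC k K n) r
  let ι' := (Scheme.Modules.pullback (CurveRR24.projBC k K n)).map (kernel.ι φ) ≫ e.hom
  haveI : Mono ι' := inferInstance
  have hreg := isMRegular_bound b (n + 1) χ (FlatMod.freeMod (CohB1.ProjSpace n K) r) G' ι' (isCoh_freeMod r) hG'
    (free_facts K n r).1 (iterate_Δb_eu (isCoh_freeMod r)) (fun t _ => le_of_eq ((free_facts K n r).2 t)) hχ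
  intro i hi hin
  exact W_of_pullback hG (by omega) (W_of_le hG'.1 hreg hi (by omega))

end Groth.Agent.Mumford23

end
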