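import Groth.Agent.Mumford23.Main
import Groth.Agent.EulerLib.IntPoly
import Groth.Agent.AbCubeLib.FiniteDegree
import Groth.Agent.DimLib.ProjDim
import Groth.Agent.Coherent.DevissageIdeal
import Groth.Agent.DCat.PerfTensor
import Groth.Agent.PruferLib.ProjVanishClosed
import Groth.Prelude.Def_ShStab

/-!
# Uniform vanishing for quotients of a free module with fixed Hilbert polynomial
-/

set_option autoImplicit false
set_option linter.style.haveILetI false
set_option backward.isDefEq.respectTransparency.types false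

universe u

open CategoryTheory CategoryTheory.Limits AlgebraicGeometry TopologicalSpace Opposite
open Groth.Agent.Coherent Groth.Agent.PicLib Groth.Agent.AmpleLib
open Groth.Agent.CAlgH3 Groth.Agent.CAlgH3.ModCohSeq Groth.Agent.CAlgH3.PSheaf Groth.Agent.CAlgH3.PSheafGen
  Groth.Agent.CAlgH3.PSheafSeq Groth.Agent.CAlgH3.PSheafBound

noncomputable section

namespace Groth.Agent.Mumford23

theorem iterate_Δb_poly : ∀ (d : ℕ) (f : ℤ → ℤ) (p : Polynomial ℚ), p.degree < (d : WithBot ℕ) →
    (∀ t : ℤ, (f t : ℚ) = p.eval (t : ℚ)) → Δb^[d] f = 0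
  | 0, f, p, hp, hf => by
    funext t
    have : p = 0 := Polynomial.degree_eq_bot.1 ((Nat.WithBot.lt_zero_iff).1 hp)
    have h := hf t
    rw [this, Polynomial.eval_zero] at h
    show f t = 0
    exact_mod_cast h
  | d + 1, f, p, hp, hf => by
    rw [Function.iterate_succ_apply]
    refine iterate_Δb_poly d _ (p - p.comp (Polynomial.X - Polynomial.C 1)) ?_ fun t => ?_
    · by_cases h0 : p = 0
      · simp [h0]
      have hnd : (p.comp (Polynomial.X - Polynomial.C 1)).natDegree = p.natDegree := by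
        rw [Polynomial.natDegree_comp, Polynomial.natDegree_X_sub_C, mul_one]
      have hc : p.comp (Polynomial.X - Polynomial.C 1) ≠ 0 := fun h => by
        rcases Polynomial.comp_eq_zero_iff.1 h with h | ⟨-, h⟩
        · exact h0 h
        · have := congrArg Polynomial.natDegree h
          rw [Polynomial.natDegree_X_sub_C, Polynomial.natDegree_C] at this
          exact one_ne_zero this
      have hdeg : p.degree = (p.comp (Polynomial.X - Polynomial.C 1)).degree := by
        rw [Polynomial.degree_eq_natDegree h0, Polynomial.degree_eq_natDegree hc, hnd]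
      have hlead : p.leadingCoeff = (p.comp (Polynomial.X - Polynomial.C 1)).leadingCoeff := by
        rw [Polynomial.leadingCoeff_comp (by rw [Polynomial.natDegree_X_sub_C]; exact one_ne_zero),
          Polynomial.leadingCoeff_X_sub_C, one_pow, mul_one]
      refine lt_of_lt_of_le (Polynomial.degree_sub_lt hdeg h0 hlead) ?_
      rw [Polynomial.degree_eq_natDegree h0] at hp ⊢
      have : p.natDegree < d + 1 := by exact_mod_cast hp
      exact_mod_cast Nat.lt_succ_iff.1 this
    · simp [Δb, Polynomial.eval_comp, hf]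

variable {k : Type u} [Field k] {r : ℕ}

/-- Euler characteristics of twists are polynomial on all of `ℤ`. -/
theorem exists_eu_poly {F : (CohB1.ProjSpace r k).Modules} (hF : Coh.IsCoh F) :
    ∃ p : Polynomial ℚ, p.natDegree ≤ r ∧ ∀ t : ℤ, (eu F t : ℚ) = p.eval (t : ℚ) := by
  let g : ℤ → EulerLib.InvCl (CohB1.ProjSpace r k) := fun t =>
    EulerLib.InvCl.mk _ (isInvertible_twistProj (k := k) (r := r) t)
  obtain ⟨p, hp, h⟩ := EulerLib.exists_poly_int k hF (r := r) (DimLib.PN.topologicalKrullDim_projSpace r k).le g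
    (by
      obtain ⟨e⟩ := TwistLib.G.nonempty_twist_pow_iso (𝒜 := CohB1.polyGrading r k) covers 0
      exact EulerLib.InvCl.mk_eq _ AmpleLib.isInvertible_structureModule ((PRing.twistCompare (k := k) (r := r) 0).symm ≪≫ e))
    (fun a b => by
      obtain ⟨e⟩ := TwistLib.G.nonempty_tensor_twist_iso (𝒜 := CohB1.polyGrading r k) covers
        (show a + b = a + b from rfl)
      exact ((EulerLib.InvCl.mk_mul _ _).trans (EulerLib.InvCl.mk_eq _ _ e)).symm)
  exact ⟨p, hp, fun t => (congrArg (fun z : ℤ => (z : ℚ)) (EulerLib.chiCl_mk k F _)).symm.trans (h t)⟩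

theorem iterate_Δb_eu {F : (CohB1.ProjSpace r k).Modules} (hF : Coh.IsCoh F) : Δb^[r + 1] (eu F) = 0 := by
  obtain ⟨p, hp, h⟩ := exists_eu_poly hF
  refine iterate_Δb_poly _ _ p ?_ h
  exact lt_of_le_of_lt Polynomial.degree_le_natDegree (by exact_mod_cast Nat.lt_succ_of_le hp)

theorem nonempty_tensorPow_congr {X : Scheme.{u}} {L L' : X.Modules} (e : L ≅ L') :
    ∀ n : ℕ, Nonempty (CohB1.tensorPow L n ≅ CohB1.tensorPow L' n)
  | 0 => ⟨Iso.refl _⟩
  | n + 1 => (nonempty_tensorPow_congr e n).map fun e' => Coherent.tensorIso e' e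

section push

variable {X : Scheme.{u}} [X.Over (Spec (CommRingCat.of k))] (ι : X ⟶ CohB1.ProjSpace r k) [IsClosedImmersion ι]
  {L : X.Modules} (hL : Nonempty (L ≅ (Scheme.Modules.pullback ι).obj (Twist.twistProjSpace r k 1)))

omit [X.Over (Spec (CommRingCat.of k))] in
include hL in
/-- The projection formula. -/
theorem nonempty_push_twist (M : X.Modules) (l : ℕ) :
    Nonempty ((Scheme.Modules.pushforward ι).obj (ShStab.twist X L M l) ≅
      CohB1.tensorMod ((Scheme.Modules.pushforward ι).obj M) (Twist.twistProjSpace r k (l : ℤ))) := by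
  obtain ⟨e⟩ := hL
  obtain ⟨e'⟩ := nonempty_tensorPow_congr e l
  obtain ⟨e''⟩ := PruferLib.ProjVanish.nonempty_push_twist ι (isInvertible_twistProj (k := k) (r := r) 1) l M
  obtain ⟨c⟩ := nonempty_tensorPow_congr (PRing.twistCompare (k := k) (r := r) 1).symm l
  obtain ⟨d⟩ := TwistLib.G.nonempty_twist_pow_iso (𝒜 := CohB1.polyGrading r k) covers l
  exact ⟨(Scheme.Modules.pushforward ι).mapIso (Coherent.tensorIso (Iso.refl M) e') ≪≫ e'' ≪≫
    Coherent.tensorIso (Iso.refl _) (c ≪≫ d.symm ≪≫ PRing.twistCompare (l : ℤ))⟩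

variable (hι : ι ≫ CohB1.ProjSpace.toSpec r k = X ↘ Spec (CommRingCat.of k))

include hL in
theorem euler_twist_eq {M : X.Modules} (hM : Coh.IsCoh M) (l : ℕ)
    (hι : ι ≫ CohB1.ProjSpace.toSpec r k = X ↘ Spec (CommRingCat.of k)) :
    Curv2.euler k X (ShStab.twist X L M l) = eu ((Scheme.Modules.pushforward ι).obj M) l := by
  obtain ⟨e⟩ := nonempty_push_twist ι hL M l
  haveI : IsLocallyNoetherian X := LocallyOfFiniteType.isLocallyNoetherian ι
  haveI : (CohB1.ProjSpace r k).IsSeparated := EulerLib.isSeparated_of_proper k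
  have hinv : PicF.IsInvertible L := by
    obtain ⟨e⟩ := hL
    exact glocus_isInvertible_of_iso e.symm (PicLoc.isInvertible_pullback ι (isInvertible_twistProj 1))
  haveI : Coh.IsQCoh (ShStab.twist X L M l) := (EulerLib.isCoh_twist (isInvertible_tensorPow hinv l) hM).1
  exact (AbCubeLib.euler_push k ι hι _).trans (EulerLib.euler_congr k _ e)

omit [X.Over (Spec (CommRingCat.of k))] in
include hL in
theorem subsingleton_HH_twist {M : X.Modules} (hM : Coh.IsCoh M) (l i : ℕ)
    (h : W ((Scheme.Modules.pushforward ι).obj M) (l : ℤ) i) :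
    Subsingleton (Coh.HH X (ShStab.twist X L M l) i) := by
  obtain ⟨e⟩ := nonempty_push_twist ι hL M l
  haveI : IsLocallyNoetherian X := LocallyOfFiniteType.isLocallyNoetherian ι
  have hinv : PicF.IsInvertible L := by
    obtain ⟨e⟩ := hL
    exact glocus_isInvertible_of_iso e.symm (PicLoc.isInvertible_pullback ι (isInvertible_twistProj 1))
  haveI : Coh.IsQCoh (ShStab.twist X L M l) := (EulerLib.isCoh_twist (isInvertible_tensorPow hinv l) hM).1
  exact @Equiv.subsingleton _ _ (HHAffinePushEquiv ι _ i).toEquiv (V_of_iso e.symm h)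

omit [X.Over (Spec (CommRingCat.of k))] in
/-- Global generation descends along closed immersions. -/
theorem isGloballyGenerated_of_push {M : X.Modules}
    (h : Curv2.IsGloballyGenerated ((Scheme.Modules.pushforward ι).obj M)) : Curv2.IsGloballyGenerated M := by
  refine ⟨Γ(M, (⊤ : X.Opens)), freeDesc fun s : Γ(M, (⊤ : X.Opens)) => Coherent.unitDesc M s,
    Preadditive.epi_of_cancel_zero _ fun {C : X.Modules} (f : M ⟶ C) hf => ?_⟩
  have hker : ∀ a : Γ(M, (⊤ : X.Opens)), f.app ⊤ a = 0 := fun a => by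
    have h2 : (freeInj a ≫ freeDesc fun s : Γ(M, (⊤ : X.Opens)) => Coherent.unitDesc M s) ≫ f = 0 :=
      (Category.assoc _ _ _).trans ((congrArg (freeInj a ≫ ·) hf).trans Limits.comp_zero)
    rw [freeInj_freeDesc] at h2
    have h3 := congrArg (fun φ : Coh.structureModule _ ⟶ C => φ.app (⊤ : X.Opens) (1 : Γ(X, ⊤))) h2
    have h4 := unitVal_unitDesc M a ⊤
    rw [resM_self] at h4
    exact (congrArg (f.app ⊤) h4.symm).trans h3
  refine (Coh.push ι).map_injective (Eq.trans ?_ ((Coh.push ι).map_zero M C).symm)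
  obtain ⟨J, p, hp⟩ := h
  refine (cancel_epi p).1 (Eq.trans ?_ comp_zero.symm)
  refine freeMod_hom_ext fun j => Eq.trans ?_ comp_zero.symm
  refine (AmpleLib.unitDesc_unitVal (freeInj j ≫ p ≫ (Coh.push ι).map f)).symm.trans
    (Eq.trans (congrArg (Coherent.unitDesc _) ?_) (AmpleLib.unitDesc_unitVal (0 : Coh.structureModule _ ⟶ _)))
  show ((Coh.push ι).map f).app ⊤ ((freeInj j ≫ p).app ⊤ (1 : Γ(CohB1.ProjSpace r k, ⊤))) = _
  exact hker _

end push

/-- Uniform regularity of the submodules of a fixed coherent module with given Euler characteristics. -/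
theorem exists_regularity_sub [Infinite k] {B : (CohB1.ProjSpace r k).Modules} (hB : Coh.IsCoh B)
    (R : Polynomial ℚ) :
    ∃ m : ℤ, ∀ (G : (CohB1.ProjSpace r k).Modules) (j : G ⟶ B), Mono j → Coh.IsCoh G →
      (∀ l : ℕ, (eu G l : ℚ) = R.eval (l : ℚ)) → Curv2.IsMRegular k r G m := by
  obtain ⟨e, he⟩ := exists_isMRegular B hB
  let O := Twist.twistProjSpace r k e
  let χ : ℤ → ℤ := fun t => ⌊R.eval ((e + t : ℤ) : ℚ)⌋
  refine ⟨e + bound (eu (CohB1.tensorMod B O)) (r + 1) χ, fun G j _ hG hR i hi hir => ?_⟩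
  haveI : Mono (tensorMap j (𝟙 O)) := EulerLib.mono_tensorMap (isInvertible_twistProj e) j
  have hA : Curv2.IsMRegular k r (CohB1.tensorMod B O) 0 := fun i hi _ =>
    (W_iff_twist hB.1 (show e + (0 - i) = e - i by ring) i).2 (W_of_le hB.1 he hi le_rfl)
  have hχ : eu (CohB1.tensorMod G O) = χ := by
    funext t
    rw [eu_twist hG.1 rfl]
    obtain ⟨p, -, hp⟩ := exists_eu_poly hG
    have hpR : p = R := Polynomial.eq_of_infinite_eval_eq _ _ (Set.infinite_of_injective_forall_mem
      (f := fun l : ℕ => (l : ℚ)) Nat.cast_injective fun l => by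
        show p.eval (l : ℚ) = R.eval (l : ℚ)
        rw [← hR l, hp]
        simp)
    show _ = ⌊R.eval ((e + t : ℤ) : ℚ)⌋
    rw [← hpR, ← hp, Int.floor_intCast]
  have h := isMRegular_bound (eu (CohB1.tensorMod B O)) (r + 1) χ _ _ (tensorMap j (𝟙 O)) (isCoh_twistProj hB e)
    (isCoh_twistProj hG e) hA (iterate_Δb_eu (isCoh_twistProj hB e)) (fun _ _ => le_rfl) hχ
  exact (W_iff_twist hG.1 (show e + (bound (eu (CohB1.tensorMod B O)) (r + 1) χ - i) = _ by ring) i).1 (h i hi hir)

theorem isCoh_freeMod {X : Scheme.{u}} [IsLocallyNoetherian X] (n : ℕ) : Coh.IsCoh (FlatMod.freeMod X n) := by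
  refine CohBC.isCoh_of_isFinLocFree fun y => ?_
  obtain ⟨e⟩ := DCat.PerfTensor.nonempty_pullback_free (X := X) (⊤ : X.Opens).ι n
  exact ⟨⊤, n, trivial, ⟨(Scheme.Modules.restrictFunctorIsoPullback _).app _ ≪≫ e⟩⟩

theorem exists_uniform [Infinite k] (X : Scheme.{u}) [X.Over (Spec (CommRingCat.of k))]
    (ι : X ⟶ CohB1.ProjSpace r k) [IsClosedImmersion ι]
    (hι : ι ≫ CohB1.ProjSpace.toSpec r k = X ↘ Spec (CommRingCat.of k))
    (L : X.Modules) (hL : Nonempty (L ≅ (Scheme.Modules.pullback ι).obj (Twist.twistProjSpace r k 1)))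
    (N : ℕ) (P : Polynomial ℚ) :
    ∃ l₀ : ℕ, ∀ (F : X.Modules) (q : FlatMod.freeMod X N ⟶ F),
      Coh.IsCoh F → Epi q → ShStab.IsHilbPoly k X L F P →
        ∀ l : ℕ, l₀ ≤ l →
          (∀ i : ℕ, 0 < i → Subsingleton (Coh.HH X (ShStab.twist X L F l) i)) ∧
          (∀ i : ℕ, 0 < i → Subsingleton (Coh.HH X (ShStab.twist X L (kernel q) l) i)) ∧
          Curv2.IsGloballyGenerated (ShStab.twist X L (kernel q) l) := by
  haveI : IsLocallyNoetherian X := LocallyOfFiniteType.isLocallyNoetherian ι
  haveI : IsProper (X ↘ Spec (CommRingCat.of k)) := by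
    rw [← hι]
    haveI := isProper_projSpace_toSpec r k
    infer_instance
  have hfree : Coh.IsCoh (FlatMod.freeMod X N) := isCoh_freeMod N
  have hinv : PicF.IsInvertible L := by
    obtain ⟨e⟩ := hL
    exact glocus_isInvertible_of_iso e.symm (PicLoc.isInvertible_pullback ι (isInvertible_twistProj 1))
  let B := (Scheme.Modules.pushforward ι).obj (FlatMod.freeMod X N)
  have hB : Coh.IsCoh B := isCoh_push_finite ι hfree
  obtain ⟨e, he⟩ := exists_isMRegular B hB
  obtain ⟨p, -, hp⟩ := exists_eu_poly hB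
  obtain ⟨m, hm⟩ := exists_regularity_sub hB (p - P)
  refine ⟨(max e m).toNat, fun F q hF _ hP l hl => ?_⟩
  have hK : Coh.IsCoh (kernel q) := isCoh_kernel q hfree hF.1
  have hS : (ShortComplex.mk (kernel.ι q) q (kernel.condition q)).ShortExact :=
    { exact := ShortComplex.exact_kernel q }
  have hS' := EulerLib.twistSeq_shortExact (isInvertible_tensorPow hinv l) hS
  haveI : Mono ((Scheme.Modules.pushforward ι).map (kernel.ι q)) :=
    haveI : (Scheme.Modules.pushforward ι).IsRightAdjoint :=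
      (Scheme.Modules.pullbackPushforwardAdjunction ι).isRightAdjoint
    inferInstance
  have hG := isCoh_push_finite ι hK
  have hreg : Curv2.IsMRegular k r ((Coh.push ι).obj (kernel q)) m :=
    hm _ ((Scheme.Modules.pushforward ι).map (kernel.ι q)) inferInstance hG fun t => by
      have h2 := EulerLib.euler_additive k X _ (EulerLib.twistSeq_shortExact (isInvertible_tensorPow hinv t) hS)
        (EulerLib.isCoh_twist (isInvertible_tensorPow hinv t) hK)
        (EulerLib.isCoh_twist (isInvertible_tensorPow hinv t) hfree)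
        (EulerLib.isCoh_twist (isInvertible_tensorPow hinv t) hF)
      have h3 : Curv2.euler k X (ShStab.twist X L (FlatMod.freeMod X N) t) =
          Curv2.euler k X (ShStab.twist X L (kernel q) t) + Curv2.euler k X (ShStab.twist X L F t) := h2
      rw [euler_twist_eq ι hL hfree t hι, euler_twist_eq ι hL hK t hι] at h3
      have h4 := congrArg (fun z : ℤ => (z : ℚ)) h3
      simp only [Int.cast_add] at h4
      rw [hp, hP t] at h4
      rw [Polynomial.eval_sub]
      push_cast at h4
      exact eq_sub_iff_add_eq.2 h4.symm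
  have hWB : ∀ i : ℕ, 1 ≤ i → W B (l : ℤ) i := fun i hi => W_of_le hB.1 he hi (by omega)
  have hWG : ∀ i : ℕ, 1 ≤ i → W ((Coh.push ι).obj (kernel q)) (l : ℤ) i := fun i hi =>
    W_of_le hG.1 hreg hi (by omega)
  refine ⟨fun i hi => ?_, fun i hi => subsingleton_HH_twist ι hL hK l i (hWG i hi), ?_⟩
  · exact V_right hS' (subsingleton_HH_twist ι hL hfree l i (hWB i hi))
      (subsingleton_HH_twist ι hL hK l (i + 1) (hWG (i + 1) (by omega)))
  · obtain ⟨e'⟩ := nonempty_push_twist ι hL (kernel q) l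
    exact isGloballyGenerated_of_push ι (globallyGenerated_of_iso e'.symm (PSheafGen.isGloballyGenerated hG.1
      (isMRegular_of_le hG.1 (by omega) hreg) (isCoh_twistProj hG _)))

end Groth.Agent.Mumford23

end
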