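import Groth.Agent.CAlgH3.PSheafSeq
import Groth.Agent.EulerLib.Additive

/-!
# First cohomology along short exact sequences on a proper scheme over a field
-/

set_option autoImplicit false
set_option linter.style.haveILetI false
set_option backward.isDefEq.respectTransparency.types false

universe u

open CategoryTheory CategoryTheory.Limits AlgebraicGeometry TopologicalSpace Opposite
open Groth.Agent.Coherent Groth.Agent.PicLib Groth.Agent.AmpleLib

namespace Groth.Agent.Mumford23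

variable {X : Scheme.{u}} (k : Type u) [Field k] [X.Over (Spec (CommRingCat.of k))]
  [IsProper (X ↘ Spec (CommRingCat.of k))]

theorem finrank_HH_congr {M N : X.Modules} (e : M ≅ N) (q : ℕ) :
    Module.finrank k (Coh.HH X M q) = Module.finrank k (Coh.HH X N q) :=
  ((EulerLib.HHBaseEquiv k M q).trans
    ((isoA _ e ⊤ q).trans (EulerLib.HHBaseEquiv k N q).symm)).finrank_eq

theorem finite_HA {M : X.Modules} (hM : Coh.IsCoh M) (q : ℕ) :
    Module.Finite k (HA (baseHom k X) M (⊤ : X.Opens) q) :=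
  finCoh_of_isProper (X ↘ Spec (CommRingCat.of k)) M hM q

theorem subsingleton_of_finrank_eq_zero {M : X.Modules} (hM : Coh.IsCoh M) (q : ℕ)
    (h : Module.finrank k (Coh.HH X M q) = 0) : Subsingleton (Coh.HH X M q) := by
  haveI := (finite_HH_iff k M q).2 (finite_HA k hM q)
  exact Module.finrank_zero_iff.1 h

/-- Cohomology in degree zero embeds along monomorphisms. -/
theorem finrank_H0_le {M N : X.Modules} (hN : Coh.IsCoh N) (f : M ⟶ N) [Mono f] :
    Module.finrank k (Coh.HH X M 0) ≤ Module.finrank k (Coh.HH X N 0) := by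
  rw [(EulerLib.HHBaseEquiv k M 0).finrank_eq, (EulerLib.HHBaseEquiv k N 0).finrank_eq]
  haveI := finite_HA k hN 0
  let S : ShortComplex X.Modules := ShortComplex.mk f (cokernel.π f) (cokernel.condition f)
  have hS : S.ShortExact := { exact := ShortComplex.exact_cokernel f }
  exact LinearMap.finrank_le_finrank_of_injective (f := postA (baseHom k X) S.f ⊤ 0)
    (EulerLib.postA_zero_injective _ hS ⊤)

variable {S : ShortComplex X.Modules} (hS : S.ShortExact)

include hS in
/-- When `H¹` of the quotient vanishes, `h¹` drops along the sequence, strictly unless the global sections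
of the quotient lift. -/
theorem finrank_H1_step (h₁ : Coh.IsCoh S.X₁) (h₂ : Coh.IsCoh S.X₂)
    (h₃ : Subsingleton (Coh.HH X S.X₃ 1)) :
    Module.finrank k (Coh.HH X S.X₂ 1) ≤ Module.finrank k (Coh.HH X S.X₁ 1) ∧
      (Function.Surjective (S.g.app (⊤ : X.Opens)) ↔
        Module.finrank k (Coh.HH X S.X₂ 1) = Module.finrank k (Coh.HH X S.X₁ 1)) := by
  let φ := baseHom k X
  haveI := finite_HA k h₁ 1
  haveI := finite_HA k h₂ 1
  haveI : Subsingleton (HA φ S.X₃ (⊤ : X.Opens) 1) :=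
    (EulerLib.HHBaseEquiv k S.X₃ 1).symm.toEquiv.subsingleton
  have hsur : Function.Surjective (postA φ S.f (⊤ : X.Opens) 1) := fun x =>
    (exact_postA φ hS ⊤ 1 x).1 (Subsingleton.elim _ _)
  have hbridge : Function.Surjective (S.g.app (⊤ : X.Opens)) ↔
      Function.Surjective (postA φ S.g (⊤ : X.Opens) 0) := by
    have hnat : ∀ b, secH (X := X.toTopCat) (Coh.toAb S.X₃) (⊤ : X.Opens) (postA φ S.g (⊤ : X.Opens) 0 b) =
        S.g.app (⊤ : X.Opens) (secH (X := X.toTopCat) (Coh.toAb S.X₂) (⊤ : X.Opens) b) := fun b =>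
      secH_postH (X := X.toTopCat) (F := Coh.toAb S.X₂) (G := Coh.toAb S.X₃)
        ((toAbFunctor X).map S.g) (⊤ : X.Opens) b
    constructor
    · intro hg y
      obtain ⟨a, ha⟩ := hg (secH (X := X.toTopCat) (Coh.toAb S.X₃) (⊤ : X.Opens) y)
      obtain ⟨b, rfl⟩ := (secH (X := X.toTopCat) (Coh.toAb S.X₂) (⊤ : X.Opens)).surjective a
      exact ⟨b, (secH (X := X.toTopCat) (Coh.toAb S.X₃) (⊤ : X.Opens)).injective ((hnat b).trans ha)⟩
    · intro hg z
      obtain ⟨y, rfl⟩ := (secH (X := X.toTopCat) (Coh.toAb S.X₃) (⊤ : X.Opens)).surjective z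
      obtain ⟨b, rfl⟩ := hg y
      exact ⟨_, (hnat b).symm⟩
  rw [(EulerLib.HHBaseEquiv k S.X₁ 1).finrank_eq, (EulerLib.HHBaseEquiv k S.X₂ 1).finrank_eq, hbridge]
  refine ⟨LinearMap.finrank_le_finrank_of_surjective hsur, fun hg => ?_, fun he y => ?_⟩
  · refine ((LinearEquiv.ofBijective _ ⟨?_, hsur⟩).finrank_eq).symm
    refine (injective_iff_map_eq_zero _).2 fun x hx => ?_
    obtain ⟨y, rfl⟩ := (exact_deltaA_postA φ hS ⊤ 0 x).1 hx
    exact (exact_postA_deltaA φ hS ⊤ 0 y).2 (hg y)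
  · refine (exact_postA_deltaA φ hS ⊤ 0 y).1
      ((LinearMap.injective_iff_surjective_of_finrank_eq_finrank he.symm).2 hsur ?_)
    rw [map_zero]
    exact (exact_deltaA_postA φ hS ⊤ 0 _).2 ⟨y, rfl⟩

omit [IsProper (X ↘ Spec (CommRingCat.of k))] [X.Over (Spec (CommRingCat.of k))] k in
/-- Surjectivity on global sections propagates along multiplication by sections of `L`. -/
theorem surjective_tensor_top {G G' L : X.Modules} (π : G ⟶ G') (hπ : Function.Surjective (π.app (⊤ : X.Opens)))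
    (hgen : AddSubgroup.closure {z : Γ(CohB1.tensorMod G' L, (⊤ : X.Opens)) | ∃ a b, z = tmul a b} = ⊤) :
    Function.Surjective ((tensorMap π (𝟙 L)).app (⊤ : X.Opens)) := by
  intro z
  refine AddSubgroup.closure_induction (fun w hw => ?_) ⟨0, map_zero _⟩
    (fun a b _ _ ha hb => ?_) (fun a _ ha => ?_) (hgen.ge (AddSubgroup.mem_top z))
  · obtain ⟨a, b, rfl⟩ := hw
    obtain ⟨a₀, rfl⟩ := hπ a
    exact ⟨tmul a₀ b, tensorMap_tmul π (𝟙 L) a₀ b⟩
  · obtain ⟨x, rfl⟩ := ha; obtain ⟨y, rfl⟩ := hb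
    exact ⟨x + y, map_add _ _ _⟩
  · obtain ⟨x, rfl⟩ := ha
    exact ⟨-x, map_neg _ _⟩

omit [IsProper (X ↘ Spec (CommRingCat.of k))] [X.Over (Spec (CommRingCat.of k))] k in
/-- Transport of the generation property along an isomorphism. -/
theorem closure_tmul_eq_top_of_iso {G G' L : X.Modules} (e : G ≅ G')
    (hgen : AddSubgroup.closure {z : Γ(CohB1.tensorMod G L, (⊤ : X.Opens)) | ∃ a b, z = tmul a b} = ⊤) :
    AddSubgroup.closure {z : Γ(CohB1.tensorMod G' L, (⊤ : X.Opens)) | ∃ a b, z = tmul a b} = ⊤ := by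
  refine top_le_iff.1 fun z _ => ?_
  obtain ⟨w, rfl⟩ : ∃ w, (tensorMap e.hom (𝟙 L)).app (⊤ : X.Opens) w = z :=
    (ConcreteCategory.bijective_of_isIso ((tensorIso e (Iso.refl L)).hom.app (⊤ : X.Opens))).2 z
  refine AddSubgroup.closure_induction (fun v hv => ?_) (by rw [map_zero]; exact zero_mem _)
    (fun a b _ _ ha hb => by rw [map_add]; exact add_mem ha hb)
    (fun a _ ha => by rw [map_neg]; exact neg_mem ha) (hgen.ge (AddSubgroup.mem_top w))
  obtain ⟨a, b, rfl⟩ := hv
  exact AddSubgroup.subset_closure ⟨e.hom.app ⊤ a, b, tensorMap_tmul e.hom (𝟙 L) a b⟩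

end Groth.Agent.Mumford23
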