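import Groth.Agent.CAlgH3.PSheafSeq
import Groth.Agent.EulerLib.Positive
import Groth.Agent.AssSch12.Uniq
import Groth.Agent.RelVALib.ChartTwist
import Mathlib.Algebra.Module.Submodule.Union

/-!
# Hyperplanes avoiding the associated points
-/

set_option autoImplicit false
set_option linter.style.haveILetI false
set_option backward.isDefEq.respectTransparency.types false

universe u

open CategoryTheory CategoryTheory.Limits AlgebraicGeometry TopologicalSpace Opposite MvPolynomial
open Groth.Agent.Coherent Groth.Agent.PicLib Groth.Agent.AmpleLib Groth.Agent.CAlgH3 Groth.Agent.CAlgH3.PTilde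

namespace Groth.Agent.Mumford23

/-- A linear form nonzero at finitely many given points of projective space over an infinite field. -/
theorem exists_section_glocus {k : Type u} [Field k] [Infinite k] {r : ℕ} (S : Set (CohB1.ProjSpace r k))
    (hS : S.Finite) :
    ∃ b : Γ(Twist.twistProjSpace r k 1, (⊤ : (CohB1.ProjSpace r k).Opens)),
      S ⊆ (glocus (Twist.twistProjSpace r k 1) b : Set (CohB1.ProjSpace r k)) := by
  haveI := hS.to_subtype
  let Lf : (Fin (r + 1) → k) →ₗ[k] MvPolynomial (Fin (r + 1)) k := Fintype.linearCombination k fun l => X l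
  let p : S → Submodule k (Fin (r + 1) → k) := fun x =>
    ((show ProjectiveSpectrum (CohB1.polyGrading r k) from x.1).asHomogeneousIdeal.toIdeal.restrictScalars k).comap Lf
  have hp : ∀ x, p x ≠ ⊤ := fun x h => by
    obtain ⟨l, hl⟩ := exists_var_notMem (show ProjectiveSpectrum (CohB1.polyGrading r k) from x.1)
    have hmem : Lf (Pi.single l 1) ∈
        (show ProjectiveSpectrum (CohB1.polyGrading r k) from x.1).asHomogeneousIdeal.toIdeal :=
      Submodule.eq_top_iff'.1 h (Pi.single l 1)
    simp [Lf, Fintype.linearCombination_apply_single] at hmem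
    exact hl hmem
  obtain ⟨c, hc⟩ := Submodule.exists_forall_notMem_of_forall_ne_top p hp
  have hdeg : Lf c ∈ CohB1.polyGrading r k 1 := by
    simp only [Lf, Fintype.linearCombination_apply]
    exact sum_mem fun l _ => Submodule.smul_mem _ _ (ProjLib.X_mem_polyGrading r k l)
  refine ⟨show Γ(Twist.twistProjSpace r k 1, (⊤ : (CohB1.ProjSpace r k).Opens)) from
    (show Γ(GrTwist.twist (CohB1.polyGrading r k) 1, (⊤ : (CohB1.ProjSpace r k).Opens)) from
      GrTwist.globalOf (CohB1.polyGrading r k) (i := 1) ⟨Lf c, hdeg⟩), fun x hx => ?_⟩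
  have h := RelVALib.glocus_globalOf_deg (𝒜 := CohB1.polyGrading r k) PSheafGen.covers (d := 1) hdeg
  exact h.ge (hc ⟨x, hx⟩ : (show ProjectiveSpectrum (CohB1.polyGrading r k) from x) ∈
    Proj.basicOpen (CohB1.polyGrading r k) (Lf c))

variable {X : Scheme.{u}} [IsLocallyNoetherian X]

/-- Multiplication by a section generating at the associated points is injective. -/
theorem mono_mulSec {F P : X.Modules} (hF : Coh.IsQCoh F) (b : Γ(P, (⊤ : X.Opens)))
    (h : AssSch.Ass F ⊆ (glocus P b : Set X)) : Mono (EulerLib.mulSec F b) := by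
  haveI : F.IsQuasicoherent := hF
  refine Preadditive.mono_of_cancel_zero _ fun z hz => Scheme.Modules.hom_ext _ _ fun W =>
    ConcreteCategory.hom_ext _ _ fun a => ?_
  refine sec_ext F _ _ fun y hy => ?_
  obtain ⟨V, hV, hyV, hVW⟩ := exists_isAffineOpen_mem_and_subset (x := y) (U := W) hy
  refine ⟨V, hVW, hyV, ?_⟩
  have hs : (EulerLib.mulSec F b).app V (resM F hVW (z.app W a)) = 0 := by
    rw [app_resM, show (EulerLib.mulSec F b).app W (z.app W a) = 0 from
      congrArg (fun φ => φ.app W a) hz, map_zero]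
  rw [AssSch12.eq_zero_of_germ_ass F hV (resM F hVW (z.app W a)) fun x hxV hx => ?_]
  · exact (map_zero _).symm
  refine (EulerLib.bijective_stalk_mulSec F b (h hx)).1 ?_
  erw [stalk_map_germ, hs, map_zero, map_zero]
  rfl

theorem mulSec_naturality {F G P : X.Modules} (φ : F ⟶ G) (b : Γ(P, (⊤ : X.Opens))) :
    EulerLib.mulSec F b ≫ tensorMap φ (𝟙 P) = φ ≫ EulerLib.mulSec G b :=
  Scheme.Modules.hom_ext _ _ fun W => ConcreteCategory.hom_ext _ _ fun a => by
    rw [Scheme.Modules.Hom.comp_app, ConcreteCategory.comp_apply, Scheme.Modules.Hom.comp_app,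
      ConcreteCategory.comp_apply, EulerLib.mulSec_app, EulerLib.mulSec_app, tensorMap_tmul]
    rfl

omit [IsLocallyNoetherian X] in
/-- If multiplication is injective on a quotient, the cokernels of multiplication inject. -/
theorem exists_mono_cokernel {F A P : X.Modules} (ι : F ⟶ A) [Mono ι] (μF : F ⟶ CohB1.tensorMod F P)
    (μA : A ⟶ CohB1.tensorMod A P) [Mono μA]
    (μQ : cokernel ι ⟶ CohB1.tensorMod (cokernel ι) P) [Mono μQ]
    (ι' : CohB1.tensorMod F P ⟶ CohB1.tensorMod A P) [Mono ι']
    (q' : CohB1.tensorMod A P ⟶ CohB1.tensorMod (cokernel ι) P) (hq' : ι' ≫ q' = 0)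
    (h1 : μF ≫ ι' = ι ≫ μA) (h2 : μA ≫ q' = cokernel.π ι ≫ μQ) :
    ∃ j : cokernel μF ⟶ cokernel μA, Mono j := by
  refine ⟨cokernel.map μF μA ι ι' h1, Preadditive.mono_of_cancel_zero _ fun {W} z hz => ?_⟩
  let W' := pullback z (cokernel.π μF)
  have hx : (pullback.snd z (cokernel.π μF) ≫ ι') ≫ cokernel.π μA = 0 := by
    rw [Category.assoc, show ι' ≫ cokernel.π μA = cokernel.π μF ≫ cokernel.map μF μA ι ι' h1 from
      (cokernel.π_desc _ _ _).symm, ← pullback.condition_assoc, hz, comp_zero]
  have hS : (ShortComplex.mk μA (cokernel.π μA) (cokernel.condition μA)).Exact := ShortComplex.exact_cokernel _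
  haveI : Mono (ShortComplex.mk μA (cokernel.π μA) (cokernel.condition μA)).f := ‹Mono μA›
  let a := hS.lift _ hx
  have ha : a ≫ μA = pullback.snd z (cokernel.π μF) ≫ ι' := hS.lift_f _ hx
  have hS' : (ShortComplex.mk ι (cokernel.π ι) (cokernel.condition ι)).Exact := ShortComplex.exact_cokernel _
  haveI : Mono (ShortComplex.mk ι (cokernel.π ι) (cokernel.condition ι)).f := ‹Mono ι›
  have haq : a ≫ cokernel.π ι = 0 := by
    rw [← cancel_mono μQ, Category.assoc, ← h2, ← Category.assoc, ha, Category.assoc, hq', comp_zero, zero_comp]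
  let f := hS'.lift a haq
  have hf : f ≫ ι = a := hS'.lift_f _ haq
  have hsnd : pullback.snd z (cokernel.π μF) = f ≫ μF := by
    rw [← cancel_mono ι', Category.assoc, h1, ← Category.assoc, hf, ha]
  refine (cancel_epi (pullback.fst z (cokernel.π μF))).1 ?_
  rw [pullback.condition, hsnd, Category.assoc, cokernel.condition, comp_zero, comp_zero]

end Groth.Agent.Mumford23
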