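import Groth.Agent.Mumford23.H1
import Groth.Agent.Mumford23.Section
import Groth.Agent.CAlgH3.PSheafBound
import Groth.Agent.CAlgH3.PSheafCx

/-!
# Mumford's bound for the regularity of subsheaves
-/

set_option autoImplicit false
set_option linter.style.haveILetI false
set_option backward.isDefEq.respectTransparency.types false

universe u

open CategoryTheory CategoryTheory.Limits AlgebraicGeometry TopologicalSpace Opposite
open Groth.Agent.Coherent Groth.Agent.PicLib Groth.Agent.AmpleLib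
open Groth.Agent.CAlgH3 Groth.Agent.CAlgH3.ModCohSeq Groth.Agent.CAlgH3.PSheaf Groth.Agent.CAlgH3.PSheafGen
  Groth.Agent.CAlgH3.PSheafSeq Groth.Agent.CAlgH3.PSheafBound

noncomputable section

namespace Groth.Agent.Mumford23

/-- The backward difference. -/
def Δb (f : ℤ → ℤ) : ℤ → ℤ := fun t => f t - f (t - 1)

/-- The regularity bound in terms of the Euler characteristics of the subsheaf and a bound `b` for those of
the ambient sheaf. -/
def bound (b : ℤ → ℤ) : ℕ → (ℤ → ℤ) → ℤ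
  | 0, _ => 0
  | d + 1, χ => max (bound b d (Δb χ)) 1 +
      ((b (max (bound b d (Δb χ)) 1 - 1) - χ (max (bound b d (Δb χ)) 1 - 1)).toNat : ℤ)

variable {k : Type u} [Field k] {r : ℕ}

local notation "Pn" => CohB1.ProjSpace r k
local notation "O[" t "]" => Twist.twistProjSpace r k t

/-- Euler characteristics of the twists. -/
abbrev eu (F : (CohB1.ProjSpace r k).Modules) (t : ℤ) : ℤ :=
  Curv2.euler k (CohB1.ProjSpace r k) (CohB1.tensorMod F (Twist.twistProjSpace r k t))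

instance isProper_over : IsProper ((CohB1.ProjSpace r k) ↘ Spec (CommRingCat.of k)) :=
  isProper_projSpace_toSpec r k

instance isLocallyNoetherian_projSpace : IsLocallyNoetherian (CohB1.ProjSpace r k) :=
  LocallyOfFiniteType.isLocallyNoetherian ((CohB1.ProjSpace r k) ↘ Spec (CommRingCat.of k))

instance compactSpace_projSpace : CompactSpace (CohB1.ProjSpace r k) :=
  QuasiCompact.compactSpace_of_compactSpace ((CohB1.ProjSpace r k) ↘ Spec (CommRingCat.of k))

theorem eu_twist {F : (CohB1.ProjSpace r k).Modules} (hF : Coh.IsQCoh F) {a b c : ℤ} (h : a + b = c) :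
    eu (CohB1.tensorMod F O[a]) b = eu F c := by
  obtain ⟨e⟩ := nonempty_twist_assoc hF h
  exact EulerLib.euler_congr k _ e

theorem eu_shortExact {S : ShortComplex (CohB1.ProjSpace r k).Modules} (hS : S.ShortExact) (h₁ : Coh.IsCoh S.X₁)
    (h₂ : Coh.IsCoh S.X₂) (h₃ : Coh.IsCoh S.X₃) (t : ℤ) : eu S.X₂ t = eu S.X₁ t + eu S.X₃ t :=
  EulerLib.euler_additive k (CohB1.ProjSpace r k) (EulerLib.twistSeq S (Twist.twistProjSpace r k t)) (twist_shortExact hS t) (isCoh_twistProj h₁ t) (isCoh_twistProj h₂ t)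
    (isCoh_twistProj h₃ t)

theorem eu_eq_finrank {A : (CohB1.ProjSpace r k).Modules} (hA : Coh.IsQCoh A)
    (h : Curv2.IsMRegular k r A 0) {t : ℤ} (ht : -1 ≤ t) :
    eu A t = (Module.finrank k (Coh.HH Pn (CohB1.tensorMod A O[t]) 0) : ℤ) := by
  show Curv2.euler k _ _ = _
  rw [EulerLib.euler_eq_sum k _ _ 0 fun q hq => W_of_le hA h hq (by omega)]
  simp

theorem eq_zero_aux {A : (CohB1.ProjSpace r k).Modules} (hA : Coh.IsCoh A) (h : Curv2.IsMRegular k r A 0)
    (h0 : eu A 0 = 0) : IsZero A := by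
  rw [eu_eq_finrank hA.1 h (by omega), Int.natCast_eq_zero] at h0
  haveI := subsingleton_of_finrank_eq_zero k (isCoh_twistProj hA 0) 0 h0
  have hsub : Subsingleton Γ(CohB1.tensorMod A O[(0 : ℤ)], (⊤ : (Pn).Opens)) :=
    ((HHTopEquiv (CohB1.tensorMod A O[(0 : ℤ)]) 0).trans
      (secH (X := (Pn).toTopCat) (Coh.toAb (CohB1.tensorMod A O[(0 : ℤ)])) (⊤ : (Pn).Opens))).symm.toEquiv.subsingleton
  have hid := eq_zero_of_kills hA.1 h (isCoh_twistProj hA 0) (𝟙 _) fun a => hsub.elim _ _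
  obtain ⟨m⟩ := nonempty_model A hA.1
  exact ((IsZero.iff_id_eq_zero _).2 hid).of_iso (m.twistIso 0 ≪≫ m.iso).symm

/-- Descending vanishing of the cohomology in degrees at least two. -/
theorem W_two_of_section {F F'' : (CohB1.ProjSpace r k).Modules} (hF : Coh.IsCoh F)
    {μ : F ⟶ CohB1.tensorMod F O[(1 : ℤ)]} {π : CohB1.tensorMod F O[(1 : ℤ)] ⟶ F''} {w : μ ≫ π = 0}
    (hS : (ShortComplex.mk μ π w).ShortExact) {m : ℤ}
    (hW : ∀ i : ℕ, 1 ≤ i → ∀ t : ℤ, m - i - 1 ≤ t → W F'' t i) {i : ℕ} (hi : 2 ≤ i) {t : ℤ}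
    (ht : m - i ≤ t) : W F t i := by
  obtain ⟨d₀, hd₀⟩ := exists_forall_W F hF
  suffices key : ∀ (n : ℕ) (t : ℤ), m - i ≤ t → d₀ ≤ t + n → W F t i from
    key (d₀ - t).toNat t ht (by omega)
  intro n
  induction n with
  | zero => exact fun t _ h => hd₀ t (by omega) i (by omega)
  | succ n ih =>
    intro t ht h
    obtain ⟨j, rfl⟩ : ∃ j, i = j + 1 := ⟨i - 1, by omega⟩
    refine W_left hS (hW j (by omega) t (by omega)) ?_
    exact (W_iff_twist hF.1 (show (1 : ℤ) + t = t + 1 by ring) _).2 (ih (t + 1) (by omega) (by omega))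

theorem exists_iterate_seq {F F'' : (CohB1.ProjSpace r k).Modules} (hF : Coh.IsQCoh F) (hF'' : Coh.IsQCoh F'')
    {μ : F ⟶ CohB1.tensorMod F O[(1 : ℤ)]} {π : CohB1.tensorMod F O[(1 : ℤ)] ⟶ F''} {w : μ ≫ π = 0}
    (hS : (ShortComplex.mk μ π w).ShortExact) (t : ℤ) :
    ∃ S : ℕ → ShortComplex (CohB1.ProjSpace r k).Modules, ∀ j : ℕ,
      (S j).ShortExact ∧ S (j + 1) = EulerLib.twistSeq (S j) O[(1 : ℤ)] ∧
      Nonempty ((S j).X₁ ≅ CohB1.tensorMod F O[t + j]) ∧
      Nonempty ((S j).X₂ ≅ CohB1.tensorMod F O[t + j + 1]) ∧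
      Nonempty ((S j).X₃ ≅ CohB1.tensorMod F'' O[t + j]) := by
  let S : ℕ → ShortComplex (CohB1.ProjSpace r k).Modules := fun j =>
    j.rec (EulerLib.twistSeq (ShortComplex.mk μ π w) O[t]) fun _ T => EulerLib.twistSeq T O[(1 : ℤ)]
  refine ⟨S, fun j => ?_⟩
  induction j with
  | zero =>
    obtain ⟨e₂⟩ := nonempty_twist_assoc hF (show (1 : ℤ) + t = t + (0 : ℕ) + 1 by push_cast; ring)
    have h0 : t + ((0 : ℕ) : ℤ) = t := by simp
    refine ⟨twist_shortExact hS t, rfl, ?_, ⟨e₂⟩, ?_⟩ <;> rw [h0] <;> exact ⟨Iso.refl _⟩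
  | succ j ih =>
    obtain ⟨hj, -, ⟨a⟩, ⟨b⟩, ⟨c⟩⟩ := ih
    have h1 : t + (j : ℤ) + 1 = t + ((j + 1 : ℕ) : ℤ) := by push_cast; ring
    obtain ⟨a'⟩ := nonempty_twist_assoc hF h1
    obtain ⟨b'⟩ := nonempty_twist_assoc hF (show t + (j : ℤ) + 1 + 1 = t + ((j + 1 : ℕ) : ℤ) + 1 by push_cast; ring)
    obtain ⟨c'⟩ := nonempty_twist_assoc hF'' h1
    exact ⟨twist_shortExact hj 1, rfl, ⟨tensorIso a (Iso.refl _) ≪≫ a'⟩, ⟨tensorIso b (Iso.refl _) ≪≫ b'⟩,
      ⟨tensorIso c (Iso.refl _) ≪≫ c'⟩⟩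

/-- `h¹` decreases strictly to zero. -/
theorem W_one_of_section {F F'' : (CohB1.ProjSpace r k).Modules} (hF : Coh.IsCoh F) (hF'' : Coh.IsCoh F'')
    {μ : F ⟶ CohB1.tensorMod F O[(1 : ℤ)]} {π : CohB1.tensorMod F O[(1 : ℤ)] ⟶ F''} {w : μ ≫ π = 0}
    (hS : (ShortComplex.mk μ π w).ShortExact) {t : ℤ}
    (hW : ∀ i : ℕ, 1 ≤ i → ∀ s : ℤ, t - i ≤ s → W F'' s i) {N : ℕ}
    (hN : Module.finrank k (Coh.HH Pn (CohB1.tensorMod F O[t]) 1) ≤ N) : W F (t + N) 1 := by
  obtain ⟨S, hSj⟩ := exists_iterate_seq hF.1 hF''.1 hS t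
  let a : ℕ → ℕ := fun j => Module.finrank k (Coh.HH Pn (CohB1.tensorMod F O[t + (j : ℤ)]) 1)
  have step : ∀ j, a (j + 1) ≤ a j ∧ (Function.Surjective ((S j).g.app (⊤ : (Pn).Opens)) ↔ a (j + 1) = a j) := by
    intro j
    obtain ⟨hj, -, ⟨e₁⟩, ⟨e₂⟩, ⟨e₃⟩⟩ := hSj j
    have h₁ : Coh.IsCoh (S j).X₁ := isCoh_of_iso e₁.symm (isCoh_twistProj hF _)
    have h₂ : Coh.IsCoh (S j).X₂ := isCoh_of_iso e₂.symm (isCoh_twistProj hF _)
    have h₃ : Subsingleton (Coh.HH Pn (S j).X₃ 1) := V_of_iso e₃.symm (hW 1 le_rfl _ (by omega))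
    have h := finrank_H1_step k hj h₁ h₂ h₃
    rw [finrank_HH_congr k e₁, finrank_HH_congr k e₂, show t + (j : ℤ) + 1 = t + ((j + 1 : ℕ) : ℤ) by
      push_cast; ring] at h
    exact h
  have prop : ∀ j, a (j + 1) = a j → a (j + 1 + 1) = a (j + 1) := by
    intro j hj
    refine (step (j + 1)).2.1 ?_
    obtain ⟨-, hsucc, -, -, ⟨e₃⟩⟩ := hSj j
    rw [hsucc]
    refine surjective_tensor_top (S j).g ((step j).2.2 hj) (closure_tmul_eq_top_of_iso e₃.symm ?_)
    exact closure_tmul_eq_top hF''.1 fun i hi _ => hW i hi _ (by omega)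
  have drop : ∀ j, a (j + 1) = a j → a j = 0 := by
    intro j hj
    have hc : ∀ l, a (j + l) = a j ∧ a (j + l + 1) = a (j + l) := fun l => by
      induction l with
      | zero => exact ⟨rfl, hj⟩
      | succ l ih => exact ⟨ih.2.trans ih.1, prop _ ih.2⟩
    obtain ⟨d₀, hd₀⟩ := exists_forall_W F hF
    rw [← (hc (d₀ - t).toNat).1]
    haveI : Subsingleton (Coh.HH Pn (CohB1.tensorMod F O[t + ((j + (d₀ - t).toNat : ℕ) : ℤ)]) 1) :=
      hd₀ _ (by push_cast; omega) 1 le_rfl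
    exact Module.finrank_zero_of_subsingleton
  have hdec : ∀ j, a j ≤ a 0 - j := fun j => by
    induction j with
    | zero => simp
    | succ j ih =>
      rcases (step j).1.lt_or_eq with h | h
      · omega
      · have := drop j h
        omega
  have h0 : a 0 ≤ N := by
    show Module.finrank k (Coh.HH Pn (CohB1.tensorMod F O[t + ((0 : ℕ) : ℤ)]) 1) ≤ N
    rwa [show t + ((0 : ℕ) : ℤ) = t by simp]
  refine subsingleton_of_finrank_eq_zero k (isCoh_twistProj hF _) 1 ?_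
  have := hdec N
  show a N = 0
  omega

/-- Mumford's bound for a subsheaf `F` of a `0`-regular sheaf `A`. -/
theorem isMRegular_bound [Infinite k] (b : ℤ → ℤ) : ∀ (d : ℕ) (χ : ℤ → ℤ)
    (A F : (CohB1.ProjSpace r k).Modules) (ι : F ⟶ A) [Mono ι], Coh.IsCoh A → Coh.IsCoh F →
    Curv2.IsMRegular k r A 0 → Δb^[d] (eu A) = 0 → (∀ t : ℤ, 0 ≤ t → eu A t ≤ b t) → eu F = χ →
    Curv2.IsMRegular k r F (bound b d χ)
  | 0, χ, A, F, ι, _, hA, hF, hA0, hd, _, _ => fun i hi hir =>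
      PSheafCx.W_of_isZero (IsZero.of_mono ι (eq_zero_aux hA hA0 (congrFun hd 0))) _ i
  | d + 1, χ, A, F, ι, _, hA, hF, hA0, hd, hb, hχ => by
    have hQ : Coh.IsCoh (cokernel ι) := isCoh_cokernel ι hF.1 hA
    obtain ⟨s, hs⟩ := exists_section_glocus (AssSch.Ass A ∪ AssSch.Ass (cokernel ι))
      ((AssSch12.finite_ass A hA).union (AssSch12.finite_ass (cokernel ι) hQ))
    haveI := mono_mulSec hA.1 s (Set.subset_union_left.trans hs)
    haveI := mono_mulSec hQ.1 s (Set.subset_union_right.trans hs)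
    have hO := isInvertible_twistProj (k := k) (r := r) 1
    haveI hι' : Mono (tensorMap ι (𝟙 O[(1 : ℤ)])) := EulerLib.mono_tensorMap hO ι
    haveI : Mono (EulerLib.mulSec F s) := by
      haveI : Mono (EulerLib.mulSec F s ≫ tensorMap ι (𝟙 _)) := by
        rw [mulSec_naturality ι s]; infer_instance
      exact mono_of_mono _ (tensorMap ι (𝟙 _))
    obtain ⟨j, hj⟩ := exists_mono_cokernel ι (EulerLib.mulSec F s) (EulerLib.mulSec A s)
      (EulerLib.mulSec (cokernel ι) s) (tensorMap ι (𝟙 _)) (tensorMap (cokernel.π ι) (𝟙 _))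
      (EulerLib.twistSeq (ShortComplex.mk ι (cokernel.π ι) (cokernel.condition ι)) O[(1 : ℤ)]).zero
      (mulSec_naturality ι s) (mulSec_naturality (cokernel.π ι) s)
    let F'' := cokernel (EulerLib.mulSec F s)
    let A'' := cokernel (EulerLib.mulSec A s)
    have hF'' : Coh.IsCoh F'' := isCoh_cokernel _ hF.1 (isCoh_twistProj hF 1)
    have hA'' : Coh.IsCoh A'' := isCoh_cokernel _ hA.1 (isCoh_twistProj hA 1)
    have hSA : (ShortComplex.mk (EulerLib.mulSec A s) (cokernel.π _) (cokernel.condition _)).ShortExact :=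
      { exact := ShortComplex.exact_cokernel _ }
    have hSF : (ShortComplex.mk (EulerLib.mulSec F s) (cokernel.π _) (cokernel.condition _)).ShortExact :=
      { exact := ShortComplex.exact_cokernel _ }
    have heu : ∀ {G : (CohB1.ProjSpace r k).Modules} (hG : Coh.IsCoh G) (μ : G ⟶ CohB1.tensorMod G O[(1 : ℤ)])
        [Mono μ], eu (CohB1.tensorMod (cokernel μ) O[(-1 : ℤ)]) = Δb (eu G) := by
      intro G hG μ _
      have hc : Coh.IsCoh (cokernel μ) := isCoh_cokernel μ hG.1 (isCoh_twistProj hG 1)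
      have hS : (ShortComplex.mk μ (cokernel.π μ) (cokernel.condition μ)).ShortExact :=
        { exact := ShortComplex.exact_cokernel μ }
      funext t
      rw [eu_twist hc.1 (show (-1 : ℤ) + t = t - 1 by ring)]
      have h := eu_shortExact hS hG (isCoh_twistProj hG 1) hc (t - 1)
      dsimp only at h
      rw [eu_twist hG.1 (show (1 : ℤ) + (t - 1) = t by ring)] at h
      show _ = eu G t - eu G (t - 1)
      omega
    have hA'0 : Curv2.IsMRegular k r (CohB1.tensorMod A'' O[(-1 : ℤ)]) 0 := fun i hi _ =>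
      (W_iff_twist hA''.1 (show (-1 : ℤ) + (0 - i) = -(i : ℤ) - 1 by ring) i).2
        (W_right hSA ((W_iff_twist hA.1 (show (1 : ℤ) + (-(i : ℤ) - 1) = -(i : ℤ) by ring) i).2
          (W_of_le hA.1 hA0 hi (by omega))) (W_of_le hA.1 hA0 (by omega) (by push_cast; omega)))
    haveI : Mono (tensorMap j (𝟙 O[(-1 : ℤ)])) := EulerLib.mono_tensorMap (isInvertible_twistProj (-1)) j
    have hF'reg := isMRegular_bound b d (Δb χ) _ _ (tensorMap j (𝟙 O[(-1 : ℤ)])) (isCoh_twistProj hA'' _)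
      (isCoh_twistProj hF'' _) hA'0 (by rw [heu hA]; exact hd) (fun t ht => by
        have h0 : 0 ≤ eu A (t - 1) := by rw [eu_eq_finrank hA.1 hA0 (by omega)]; positivity
        rw [heu hA]
        show eu A t - eu A (t - 1) ≤ b t
        have := hb t ht
        omega) (by rw [heu hF, hχ])
    set m' := max (bound b d (Δb χ)) 1 with hm'
    have hW : ∀ i : ℕ, 1 ≤ i → ∀ t : ℤ, m' - i - 1 ≤ t → W F'' t i := fun i hi t ht =>
      (W_iff_twist hF''.1 (show (-1 : ℤ) + (t + 1) = t by ring) i).1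
        (W_of_le (isCoh_twistProj hF'' _).1 (isMRegular_of_le (isCoh_twistProj hF'' _).1
          (show bound b d (Δb χ) ≤ m' from le_max_left _ _) hF'reg) hi (by omega))
    have hW2 : ∀ i : ℕ, 2 ≤ i → ∀ t : ℤ, m' - i ≤ t → W F t i := fun i hi t ht =>
      W_two_of_section hF hSF hW hi ht
    have hh : Module.finrank k (Coh.HH Pn (CohB1.tensorMod F O[m' - 1]) 1) ≤
        (b (m' - 1) - χ (m' - 1)).toNat := by
      have h1 := EulerLib.euler_eq_sum k Pn (CohB1.tensorMod F O[m' - 1]) 1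
        fun q hq => hW2 q (by omega) _ (by omega)
      have h2 : eu F (m' - 1) = χ (m' - 1) := congrFun hχ _
      haveI : Mono (tensorMap ι (𝟙 O[m' - 1])) := EulerLib.mono_tensorMap (isInvertible_twistProj _) ι
      have h3 := finrank_H0_le k (isCoh_twistProj hA (m' - 1)) (tensorMap ι (𝟙 O[m' - 1]))
      have h4 := eu_eq_finrank hA.1 hA0 (t := m' - 1) (by omega)
      have h5 := hb (m' - 1) (by omega)
      rw [show Curv2.euler k Pn (CohB1.tensorMod F O[m' - 1]) = eu F (m' - 1) from rfl, h2] at h1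
      simp [Finset.sum_range_succ] at h1
      omega
    intro i hi _
    show W F (max (bound b d (Δb χ)) 1 + _ - i) i
    rw [← hm']
    rcases eq_or_lt_of_le hi with h | h
    · subst h
      have h6 := W_one_of_section hF hF'' hSF (t := m' - 1) (fun i hi t ht => hW i hi t (by omega)) hh
      convert h6 using 1
      push_cast; ring
    · exact hW2 i h _ (by omega)

end Groth.Agent.Mumford23

end
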